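import Groth.Agent.FibDim.Semicont
import Groth.Agent.DimFormula.FlatFibres
import Groth.Agent.VarDim.Fibre
import Mathlib.AlgebraicGeometry.Morphisms.Immersion

/-!
# Dimension of a source and the loci of large fibres
-/

universe u

set_option autoImplicit false
set_option backward.isDefEq.respectTransparency.types false

open CategoryTheory CategoryTheory.Limits AlgebraicGeometry TopologicalSpace

namespace Groth.Agent.CharCycLib

open Groth.Agent Groth.Agent.VarDim

theorem iSup_add_le_iff {ι : Sort*} (d : ι → ℕ) (j n : ℕ) :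
    (⨆ i, ((d i : ℕ∞) : WithBot ℕ∞)) + (j : WithBot ℕ∞) ≤ n ↔ ∀ i, d i + j ≤ n := by
  constructor
  · intro h i
    have h1 := (add_le_add (le_iSup (fun i => ((d i : ℕ∞) : WithBot ℕ∞)) i) le_rfl).trans h
    exact_mod_cast h1
  · intro h
    rcases isEmpty_or_nonempty ι with hι | ⟨⟨i⟩⟩
    · rw [iSup_of_empty, WithBot.bot_add]
      exact bot_le
    · have hj : j ≤ n := le_add_self.trans (h i)
      refine (add_le_add (iSup_le (a := (((n - j : ℕ) : ℕ∞) : WithBot ℕ∞)) fun i => ?_) le_rfl).trans (le_of_eq ?_)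
      · exact_mod_cast Nat.le_sub_of_add_le (h i)
      · exact_mod_cast Nat.sub_add_cancel hj

variable {k : Type u} [Field k] {C X : Scheme.{u}}

theorem deg_preimmersion (q : X ⟶ Spec (CommRingCat.of k)) [LocallyOfFiniteType q] (j : C ⟶ X)
    [IsPreimmersion j] [LocallyOfFiniteType j] (x : C) : deg (j ≫ q) x = deg q (j x) := by
  rw [deg_comp_eq j q x, fdeg, rdeg_preimmersion, map_zero, add_zero]

variable (π : C ⟶ X) [LocallyOfFiniteType π] (q : X ⟶ Spec (CommRingCat.of k)) [LocallyOfFiniteType q]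

theorem mem_fibreLocus_iff (j : ℕ) (y : X) :
    (j : WithBot ℕ∞) ≤ topologicalKrullDim (π.fiber y) ↔ ∃ z, π z = y ∧ j ≤ fdeg π z := by
  rw [FibDim.le_topologicalKrullDim_fiber_iff π]
  simp only [DimFormula.rd_eq_fdeg]

include q in
/-- Every point of the closure of the locus of `j`-dimensional fibres is a specialization of a point of the locus. -/
theorem exists_specializes_of_mem_closure [CompactSpace C] (j : ℕ) (y : X)
    (hy : y ∈ closure {x : X | (j : WithBot ℕ∞) ≤ topologicalKrullDim (π.fiber x)}) :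
    ∃ x, (j : WithBot ℕ∞) ≤ topologicalKrullDim (π.fiber x) ∧ x ⤳ y := by
  haveI : IsLocallyNoetherian C := LocallyOfFiniteType.isLocallyNoetherian (π ≫ q)
  haveI : IsNoetherian C := { }
  let A : Set C := {x : C | (j : WithBot ℕ∞) ≤ FlatMor.fibreDimAt π x}
  have hA : IsClosed A := FibDim.isClosed_le_fibreDimAt π j
  haveI : NoetherianSpace ↥A := (inferInstance : NoetherianSpace C).set A
  have hAmem : ∀ z ∈ A, (j : WithBot ℕ∞) ≤ topologicalKrullDim (π.fiber (π z)) := fun z hz => by
    rw [FibDim.le_topologicalKrullDim_fiber_iff π]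
    obtain ⟨w, -, hfw, -, he⟩ := FibDim.exists_fibMax_generization π z
    rw [show (z ∈ A) = ((j : WithBot ℕ∞) ≤ FlatMor.fibreDimAt π z) from rfl, he] at hz
    exact ⟨w, hfw, by exact_mod_cast hz⟩
  have hsub : {x : X | (j : WithBot ℕ∞) ≤ topologicalKrullDim (π.fiber x)} ⊆
      ⋃ S ∈ irreducibleComponents ↥A, closure (π '' (Subtype.val '' S)) := by
    intro x hx
    obtain ⟨z, hz, hn⟩ := (FibDim.le_topologicalKrullDim_fiber_iff π x j).1 hx
    have hzA : z ∈ A := le_trans (show (j : WithBot ℕ∞) ≤ ((FibDim.rd π z : ℕ) : WithBot ℕ∞) by exact_mod_cast hn)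
      (FibDim.rd_le_fibreDimAt π specializes_rfl rfl)
    exact Set.mem_biUnion (irreducibleComponent_mem_irreducibleComponents (⟨z, hzA⟩ : ↥A))
      (subset_closure ⟨z, ⟨⟨z, hzA⟩, mem_irreducibleComponent, rfl⟩, hz⟩)
  have hfin : (irreducibleComponents ↥A).Finite := NoetherianSpace.finite_irreducibleComponents
  obtain ⟨S, hS, hyS⟩ := Set.mem_iUnion₂.1
    (closure_minimal hsub (hfin.isClosed_biUnion fun S _ => isClosed_closure) hy)
  have hirr : IsIrreducible (Subtype.val '' S) := hS.1.image _ continuous_subtype_val.continuousOn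
  have hgA : hirr.genericPoint ∈ A := by
    exact (closure_minimal (Subtype.coe_image_subset A S) hA)
      (hirr.genericPoint_closure_eq.le (subset_closure rfl))
  refine ⟨π hirr.genericPoint, hAmem _ hgA, specializes_iff_mem_closure.2 ?_⟩
  refine closure_minimal ?_ isClosed_closure hyS
  rintro _ ⟨x, hx, rfl⟩
  refine specializes_iff_mem_closure.1 (Specializes.map ?_ π.continuous)
  rw [specializes_iff_mem_closure, hirr.genericPoint_closure_eq]
  exact subset_closure hx

include q in
/-- The dimension of the source is bounded by `n` iff each fibre dimension locus has dimension at most `n - j`. -/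
theorem dim_le_iff [CompactSpace C] (n : ℕ) :
    topologicalKrullDim C ≤ n ↔ ∀ j : ℕ,
      topologicalKrullDim (closure {x : X | (j : WithBot ℕ∞) ≤ topologicalKrullDim (π.fiber x)}) + (j : WithBot ℕ∞) ≤ n := by
  rw [topologicalKrullDim_eq_iSup_deg (π ≫ q), iSup_le_iff]
  have hdeg := deg_comp_eq π q
  constructor
  · intro h j
    rw [topologicalKrullDim_set_eq_iSup_deg q isClosed_closure, iSup_add_le_iff]
    rintro ⟨y, hy⟩
    obtain ⟨x, hx, hxy⟩ := exists_specializes_of_mem_closure π q j y hy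
    obtain ⟨z, rfl, hz⟩ := (mem_fibreLocus_iff π j x).1 hx
    have h1 : deg (π ≫ q) z ≤ n := by exact_mod_cast h z
    have h2 := deg_le_of_specializes q hxy
    rw [hdeg] at h1
    show deg q y + j ≤ n
    omega
  · intro h z
    have h1 := h (fdeg π z)
    rw [topologicalKrullDim_set_eq_iSup_deg q isClosed_closure, iSup_add_le_iff] at h1
    have h2 : deg q (π z) + fdeg π z ≤ n := h1 ⟨π z, subset_closure ((mem_fibreLocus_iff π _ _).2 ⟨z, rfl, le_rfl⟩)⟩
    rw [hdeg]
    exact_mod_cast h2

include q in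
/-- Restriction to an immersed subscheme. -/
theorem dim_preimage_le_iff {W : Scheme.{u}} (ι : W ⟶ X) [IsImmersion ι] (c n : ℕ)
    (hB : ∀ j : ℕ, IsClosed {x : X | (j : WithBot ℕ∞) ≤ topologicalKrullDim (π.fiber x)}) :
    topologicalKrullDim (π ⁻¹' Set.range ι : Set C) + (c : WithBot ℕ∞) ≤ n ↔
      ∀ j : ℕ, topologicalKrullDim (ι ⁻¹' {x : X | (j : WithBot ℕ∞) ≤ topologicalKrullDim (π.fiber x)} : Set W) +
        (c : WithBot ℕ∞) + (j : WithBot ℕ∞) ≤ n := by
  haveI : IsLocallyNoetherian X := LocallyOfFiniteType.isLocallyNoetherian q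
  haveI : LocallyOfFiniteType ι := inferInstance
  let a := pullback.fst π ι
  have hrange : Set.range a = π ⁻¹' Set.range ι := Scheme.Pullback.range_fst π ι
  have hdim : topologicalKrullDim (π ⁻¹' Set.range ι : Set C) = topologicalKrullDim ↥(pullback π ι) := by
    rw [← hrange]
    exact (IsHomeomorph.topologicalKrullDim_eq _ (a.isEmbedding.toHomeomorph).isHomeomorph).symm
  rw [hdim, topologicalKrullDim_eq_iSup_deg (a ≫ π ≫ q), iSup_add_le_iff]
  simp only [deg_preimmersion (π ≫ q) a, deg_comp_eq π q]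
  constructor
  · intro h j
    rw [topologicalKrullDim_set_eq_iSup_deg (ι ≫ q) ((hB j).preimage ι.continuous), add_assoc, ← Nat.cast_add,
      iSup_add_le_iff]
    rintro ⟨w, hw⟩
    obtain ⟨z, hz, hj⟩ := (mem_fibreLocus_iff π j (ι w)).1 hw
    obtain ⟨t, ht⟩ : z ∈ Set.range a := by rw [hrange]; exact ⟨w, hz.symm⟩
    have h1 := h t
    rw [ht, hz] at h1
    show deg (ι ≫ q) w + (c + j) ≤ n
    rw [deg_preimmersion q ι]
    omega
  · intro h t
    obtain ⟨w, hw⟩ : a t ∈ π ⁻¹' Set.range ι := hrange.le ⟨t, rfl⟩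
    have h1 := h (fdeg π (a t))
    rw [topologicalKrullDim_set_eq_iSup_deg (ι ≫ q) ((hB _).preimage ι.continuous), add_assoc, ← Nat.cast_add,
      iSup_add_le_iff] at h1
    have h2 : deg (ι ≫ q) w + (c + fdeg π (a t)) ≤ n :=
      h1 ⟨w, (mem_fibreLocus_iff π _ _).2 ⟨a t, hw.symm, le_rfl⟩⟩
    rw [deg_preimmersion q ι, hw] at h2
    omega

end Groth.Agent.CharCycLib
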