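import Groth.Agent.CharCycLib.DimFibres
import Groth.Agent.VarDim.Proj
import Groth.Agent.VarDim.Intersection
import Groth.Prelude.Def_RegImm
import Mathlib.AlgebraicGeometry.Morphisms.QuasiCompact

/-!
# Proper intersection with a regular immersion
-/

universe u

set_option autoImplicit false
set_option backward.isDefEq.respectTransparency.types false

open CategoryTheory CategoryTheory.Limits AlgebraicGeometry TopologicalSpace

namespace Groth.Agent.CharCycLib

open Groth.Agent Groth.Agent.VarDim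

variable {k : Type u} [Field k] {C : Scheme.{u}} (p : C ⟶ Spec (CommRingCat.of k)) [LocallyOfFiniteType p]

include p in
/-- An irreducible component of the trace of a closed set on a subscheme has a generic point, whose degree is its dimension. -/
theorem component_spec' {D : Scheme.{u}} (a : D ⟶ C) [IsImmersion a] {P : Set C} (hP : IsClosed P)
    {Q : Set ↥(P ∩ Set.range a)} (hQ : Q ∈ irreducibleComponents ↥(P ∩ Set.range a)) :
    ∃ t : D, a t ∈ P ∧ topologicalKrullDim Q = ((deg p (a t) : ℕ∞) : WithBot ℕ∞) ∧ (∀ z ∈ Q, a t ⤳ z.1) ∧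
      ∀ y ∈ P ∩ Set.range a, y ⤳ a t → y = a t := by
  haveI : IsLocallyNoetherian C := LocallyOfFiniteType.isLocallyNoetherian p
  haveI : LocallyOfFiniteType a := inferInstance
  have hirr : IsIrreducible (Subtype.val '' Q) := hQ.1.image _ continuous_subtype_val.continuousOn
  let η := hirr.genericPoint
  have hcl : closure ({η} : Set C) = closure (Subtype.val '' Q) := hirr.genericPoint_closure_eq
  obtain ⟨O, Z, hO, hZ, hOZ⟩ := a.isLocallyClosed_range
  obtain ⟨q₀, hq₀⟩ := hQ.1.1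
  have hq₀' : η ⤳ q₀.1 := specializes_iff_mem_closure.2 (hcl.ge (subset_closure ⟨q₀, hq₀, rfl⟩))
  have hηO : η ∈ O := hq₀'.mem_open hO (hOZ.le q₀.2.2).1
  have hηcl : η ∈ closure (Subtype.val '' Q) := hcl.le (subset_closure rfl)
  have hηP : η ∈ P := closure_minimal (by rintro _ ⟨q, -, rfl⟩; exact q.2.1) hP hηcl
  have hηZ : η ∈ Z := closure_minimal (by rintro _ ⟨q, -, rfl⟩; exact (hOZ.le q.2.2).2) hZ hηcl
  obtain ⟨t, ht⟩ : η ∈ Set.range a := hOZ.ge ⟨hηO, hηZ⟩
  have hQc : IsClosed Q := isClosed_of_mem_irreducibleComponents Q hQ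
  have hmem : (⟨a t, by rw [ht]; exact ⟨hηP, ⟨t, ht⟩⟩⟩ : ↥(P ∩ Set.range a)) ∈ Q := by
    rw [← hQc.closure_eq, closure_subtype]
    show a t ∈ _
    rw [ht]
    exact hηcl
  have hgen : ∀ z ∈ Q, a t ⤳ z.1 := fun z hz => by
    rw [ht]
    exact specializes_iff_mem_closure.2 (hcl.ge (subset_closure ⟨z, hz, rfl⟩))
  refine ⟨t, ht ▸ hηP, ?_, hgen, fun y hy hyη => ?_⟩
  · have hrange : a '' closure ({t} : Set D) = Subtype.val '' Q := by
      apply subset_antisymm
      · rintro _ ⟨s, hs, rfl⟩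
        have hts : a t ⤳ a s := (specializes_iff_mem_closure.2 hs).map a.continuous
        refine ⟨⟨a s, hts.mem_closed hP (ht ▸ hηP), ⟨s, rfl⟩⟩, ?_, rfl⟩
        exact (((subtype_specializes_iff ⟨a t, _⟩ ⟨a s, _⟩).2 hts).mem_closed hQc hmem)
      · rintro _ ⟨z, hz, rfl⟩
        obtain ⟨s, hs⟩ := z.2.2
        exact ⟨s, specializes_iff_mem_closure.1 (a.isEmbedding.isInducing.specializes_iff.1 (hs.symm ▸ hgen z hz)), hs⟩
    have e1 : topologicalKrullDim ↥(closure ({t} : Set D)) = topologicalKrullDim ↥(a '' closure ({t} : Set D)) :=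
      IsHomeomorph.topologicalKrullDim_eq _ (a.isEmbedding.homeomorphImage _).isHomeomorph
    have e2 : topologicalKrullDim ↥Q = topologicalKrullDim ↥(Subtype.val '' Q) :=
      IsHomeomorph.topologicalKrullDim_eq _ ((Topology.IsEmbedding.subtypeVal).homeomorphImage Q).isHomeomorph
    rw [e2, ← hrange, ← e1, topologicalKrullDim_closure_singleton (a ≫ p), deg_preimmersion p a]
  · have hsub : Q ⊆ closure ({⟨y, hy⟩} : Set ↥(P ∩ Set.range a)) := fun z hz => by
      exact specializes_iff_mem_closure.1 ((subtype_specializes_iff ⟨y, hy⟩ z).2 (hyη.trans (hgen z hz)))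
    have hyQ : (⟨y, hy⟩ : ↥(P ∩ Set.range a)) ∈ Q := hQ.2 isIrreducible_singleton.closure hsub (subset_closure rfl)
    exact ((hgen _ hyQ).antisymm hyη).eq.symm

variable {X W : Scheme.{u}} (π : C ⟶ X) [LocallyOfFiniteType π]
  (q : X ⟶ Spec (CommRingCat.of k)) [LocallyOfFiniteType q] (ι : W ⟶ X)

/-- Points of an affine open in the range of a closed immersion are the common zeros of generators of the ideal. -/
theorem mem_range_iff_of_ker (U : X.affineOpens) [IsClosedImmersion (ι ∣_ U.1)] (rs : List Γ(X, U.1))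
    (hker : RingHom.ker (ι.app U.1).hom = Ideal.ofList rs) {y : X} (hy : y ∈ U.1) :
    y ∈ Set.range ι ↔ ∀ r ∈ rs, y ∉ X.basicOpen r := by
  constructor
  · rintro ⟨w, rfl⟩ r hr hmem
    have h0 : ι.app U.1 r = 0 := by
      have : r ∈ RingHom.ker (ι.app U.1).hom := hker ▸ Ideal.subset_span hr
      exact this
    have : w ∈ W.basicOpen (ι.app U.1 r) := Scheme.preimage_basicOpen ι r ▸ hmem
    rw [h0, Scheme.basicOpen_zero] at this
    exact this
  · intro h
    by_contra hny
    have hcl : IsClosed (Set.range (ι ∣_ U.1)) := (ι ∣_ U.1).isClosedEmbedding.isClosed_range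
    have hy' : (⟨y, hy⟩ : U.1) ∉ Set.range (ι ∣_ U.1) := by
      rintro ⟨w, hw⟩
      exact hny ⟨w.1, (morphismRestrict_base_coe ι U.1 w).symm.trans (congrArg Subtype.val hw)⟩
    let O : X.Opens := U.1.ι ''ᵁ ⟨(Set.range (ι ∣_ U.1))ᶜ, hcl.isOpen_compl⟩
    obtain ⟨r, hr, hyr⟩ := U.2.exists_basicOpen_le (V := O) ⟨y, ⟨⟨y, hy⟩, hy', rfl⟩⟩ hy
    have hbot : W.basicOpen (ι.app U.1 r) = ⊥ := by
      rw [← Scheme.preimage_basicOpen, eq_bot_iff]
      rintro w hw
      obtain ⟨v, hv, hvw⟩ := hr hw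
      have hwU : w ∈ ι ⁻¹ᵁ U.1 := X.basicOpen_le r hw
      exact hv ⟨⟨w, hwU⟩, Subtype.ext ((morphismRestrict_base_coe ι U.1 ⟨w, hwU⟩).trans hvw.symm)⟩
    haveI : IsAffine U.1 := U.2
    have hc : IsCompact ((ι ⁻¹ᵁ U.1 : W.Opens) : Set W) :=
      IsAffineOpen.isCompact (show IsAffineOpen (ι ⁻¹ᵁ U.1) from isAffine_of_isAffineHom (ι ∣_ U.1))
    obtain ⟨m, hm⟩ := (Scheme.isNilpotent_iff_basicOpen_eq_bot_of_isCompact hc _).2 hbot
    have hmem : r ^ m ∈ Ideal.ofList rs := hker ▸ (show (ι.app U.1) (r ^ m) = 0 by rw [map_pow, hm])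
    obtain ⟨P, hP⟩ := exists_fromSpec_eq U.2 hy
    have hsub : ∀ s : Γ(X, U.1), y ∈ X.basicOpen s ↔ s ∉ P.asIdeal := fun s => by
      rw [← hP, ← PrimeSpectrum.mem_basicOpen, ← U.2.fromSpec_preimage_basicOpen s]
      rfl
    exact (hsub r).1 hyr (P.2.mem_of_pow_mem m
      ((Ideal.span_le (I := P.asIdeal)).2 (fun s hs => not_not.1 (mt (hsub s).2 (h s hs))) hmem))

include q in
theorem proper_iff [IsImmersion ι] (n c : ℕ)
    (hι : ∀ w : W, ∃ U : X.affineOpens, ι w ∈ U.1 ∧ IsClosedImmersion (ι ∣_ U.1) ∧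
      ∃ rs : List Γ(X, U.1), rs.length = c ∧ RingHom.ker (ι.app U.1).hom = Ideal.ofList rs)
    (hC : ∀ P ∈ irreducibleComponents (C : Type u), topologicalKrullDim P = n) :
    (∀ P ∈ irreducibleComponents (C : Type u), ∀ Q ∈ irreducibleComponents (P ∩ π ⁻¹' Set.range ι : Set C),
        topologicalKrullDim Q + (c : WithBot ℕ∞) = n) ↔
      topologicalKrullDim (π ⁻¹' Set.range ι : Set C) + (c : WithBot ℕ∞) ≤ n := by
  classical
  haveI : IsLocallyNoetherian X := LocallyOfFiniteType.isLocallyNoetherian q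
  haveI : LocallyOfFiniteType ι := inferInstance
  let a := pullback.fst π ι
  have hrange : Set.range a = π ⁻¹' Set.range ι := Scheme.Pullback.range_fst π ι
  rw [← hrange]
  have hdim : topologicalKrullDim (Set.range a) = topologicalKrullDim ↥(pullback π ι) :=
    (IsHomeomorph.topologicalKrullDim_eq _ (a.isEmbedding.toHomeomorph).isHomeomorph).symm
  rw [hdim, topologicalKrullDim_eq_iSup_deg (a ≫ π ≫ q), iSup_add_le_iff]
  simp only [deg_preimmersion (π ≫ q) a]
  constructor
  · intro h t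
    let P := irreducibleComponent (a t)
    let z : ↥(P ∩ Set.range a) := ⟨a t, mem_irreducibleComponent, ⟨t, rfl⟩⟩
    obtain ⟨s, -, hd, hgen, -⟩ := component_spec' (π ≫ q) a isClosed_irreducibleComponent
      (irreducibleComponent_mem_irreducibleComponents z)
    have h1 := h P (irreducibleComponent_mem_irreducibleComponents _) _ (irreducibleComponent_mem_irreducibleComponents z)
    rw [hd] at h1
    have h2 : deg (π ≫ q) (a s) + c = n := by exact_mod_cast h1
    have h3 : deg (π ≫ q) (a t) ≤ deg (π ≫ q) (a s) := deg_le_of_specializes (π ≫ q) (hgen z mem_irreducibleComponent)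
    show deg (π ≫ q) (a t) + c ≤ n
    omega
  · intro h P hP Q hQ
    obtain ⟨t, htP, hd, -, hmax⟩ := component_spec' (π ≫ q) a (isClosed_of_mem_irreducibleComponents P hP) hQ
    rw [hd]
    have hle : deg (π ≫ q) (a t) + c ≤ n := h t
    suffices n ≤ deg (π ≫ q) (a t) + c by exact_mod_cast le_antisymm hle this
    obtain ⟨w, hw⟩ : a t ∈ π ⁻¹' Set.range ι := hrange.le ⟨t, rfl⟩
    obtain ⟨U, hwU, hci, rs, hlen, hker⟩ := hι w
    obtain ⟨V, hV, htV, hVU⟩ := exists_isAffineOpen_mem_and_subset (x := a t) (U := π ⁻¹ᵁ U.1)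
      (show π (a t) ∈ U.1 from hw ▸ hwU)
    let ξ := hP.1.genericPoint
    have hξcl : closure ({ξ} : Set C) = P :=
      hP.1.genericPoint_closure_eq.trans (isClosed_of_mem_irreducibleComponents P hP).closure_eq
    have hξn : deg (π ≫ q) ξ = n := by
      have h1 := topologicalKrullDim_closure_singleton (π ≫ q) ξ
      rw [hξcl, hC P hP] at h1
      exact_mod_cast h1.symm
    have hξt : ξ ⤳ a t := specializes_iff_mem_closure.2 (hξcl.ge htP)
    obtain ⟨pξ, hpξ⟩ := exists_fromSpec_eq hV (hξt.mem_open V.2 htV)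
    obtain ⟨pη, hpη⟩ := exists_fromSpec_eq hV htV
    obtain ⟨_, hft⟩ := exists_algebra (π ≫ q) hV
    let e := (π.appLE U.1 V hVU).hom
    let s : Finset Γ(C, V) := (rs.map e).toFinset
    have hbo : ∀ (P' : PrimeSpectrum Γ(C, V)) (r : Γ(X, U.1)),
        π (hV.fromSpec P') ∈ X.basicOpen r ↔ e r ∉ P'.asIdeal := fun P' r => by
      rw [← PrimeSpectrum.mem_basicOpen, ← hV.fromSpec_preimage_basicOpen (e r)]
      show hV.fromSpec P' ∈ π ⁻¹ᵁ X.basicOpen r ↔ hV.fromSpec P' ∈ C.basicOpen (e r)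
      rw [Scheme.preimage_basicOpen, show C.basicOpen (e r) = V ⊓ C.basicOpen (π.app U.1 r) from
        C.basicOpen_res (π.app U.1 r) (homOfLE hVU).op]
      exact ⟨fun h => ⟨fromSpec_mem hV P', h⟩, fun h => h.2⟩
    have hzero : ∀ P' : PrimeSpectrum Γ(C, V), hV.fromSpec P' ∈ Set.range a ↔ Ideal.span (s : Set Γ(C, V)) ≤ P'.asIdeal := by
      intro P'
      rw [hrange, Set.mem_preimage, mem_range_iff_of_ker ι U rs hker (hVU (fromSpec_mem hV P'))]
      rw [Ideal.span_le]
      constructor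
      · intro h x hx
        obtain ⟨r, hr, rfl⟩ := List.mem_map.1 (List.mem_toFinset.1 hx)
        exact not_not.1 (mt (hbo P' r).2 (h r hr))
      · intro h r hr hmem
        exact (hbo P' r).1 hmem (h (List.mem_toFinset.2 (List.mem_map.2 ⟨r, hr, rfl⟩)))
    have hqp : pξ ≤ pη := (fromSpec_specializes_iff hV pξ pη).1 (by rw [hpξ, hpη]; exact hξt)
    have hmin : pη.asIdeal ∈ (pξ.asIdeal ⊔ Ideal.span (s : Set Γ(C, V))).minimalPrimes := by
      refine ⟨⟨pη.2, sup_le hqp ((hzero pη).1 (by rw [hpη]; exact ⟨t, rfl⟩))⟩, fun S hS hSp => ?_⟩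
      let P' : PrimeSpectrum Γ(C, V) := ⟨S, hS.1⟩
      have h1 : hV.fromSpec P' ∈ P := by
        rw [← hξcl, ← specializes_iff_mem_closure, ← hpξ, fromSpec_specializes_iff]
        exact le_sup_left.trans hS.2
      have h2 := hmax _ ⟨h1, (hzero P').2 (le_sup_right.trans hS.2)⟩ (by
        rw [← hpη, fromSpec_specializes_iff]; exact hSp)
      rw [← hpη] at h2
      exact (congrArg PrimeSpectrum.asIdeal (hV.fromSpec.isOpenEmbedding.injective h2)).ge
    have hk := ProjN.coheight_le_of_mem_minimalPrimes_sup (k := k) s hmin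
    rw [← hξn, ← hpξ, ← hpη]
    rw [deg_eq_coheight (π ≫ q) hV, deg_eq_coheight (π ≫ q) hV] at hk
    have hcard : s.card ≤ c := (List.toFinset_card_le _).trans (by rw [List.length_map, hlen])
    have hk' : deg (π ≫ q) (hV.fromSpec pξ) ≤ deg (π ≫ q) (hV.fromSpec pη) + s.card := by exact_mod_cast hk
    omega

end Groth.Agent.CharCycLib
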