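import Groth.Agent.CharCycLib.DimFibres
import Groth.Agent.RadPtLib.Basic
import Mathlib.AlgebraicGeometry.Morphisms.UniversallyInjective
import Mathlib.AlgebraicGeometry.Morphisms.Separated
import Mathlib.AlgebraicGeometry.IdealSheaf.Subscheme

/-!
# Well intersecting closed subsets
-/

universe u

set_option autoImplicit false
set_option backward.isDefEq.respectTransparency.types false

open CategoryTheory CategoryTheory.Limits AlgebraicGeometry TopologicalSpace

namespace Groth.Agent.CharCycLib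

open Groth.Agent Groth.Agent.VarDim

variable {k : Type u} [Field k]

theorem deg_le_dim {P : Scheme.{u}} (p : P ⟶ Spec (CommRingCat.of k)) [LocallyOfFiniteType p] (O : P.Opens)
    {T : Set P} (hT : IsClosed T) {z : P} (hz : z ∈ (O : Set P) ∩ T) :
    ((deg p z : ℕ∞) : WithBot ℕ∞) ≤ topologicalKrullDim ↥((O : Set P) ∩ T) := by
  have himg : O.ι '' (O.ι ⁻¹' T) = (O : Set P) ∩ T := by
    rw [Set.image_preimage_eq_range_inter, Scheme.Opens.range_ι]
  have hd : topologicalKrullDim ↥(O.ι ⁻¹' T) = topologicalKrullDim ↥((O : Set P) ∩ T) := by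
    rw [← himg]
    exact IsHomeomorph.topologicalKrullDim_eq _ (O.ι.isEmbedding.homeomorphImage _).isHomeomorph
  rw [← hd, topologicalKrullDim_set_eq_iSup_deg (O.ι ≫ p) (hT.preimage O.ι.continuous)]
  refine le_iSup_of_le ⟨⟨z, hz.1⟩, hz.2⟩ ?_
  rw [deg_preimmersion p O.ι]
  rfl

theorem exists_specializes_of_mem_closure_image {P X : Scheme.{u}} [IsNoetherian P] (g : P ⟶ X) {T : Set P}
    (hT : IsClosed T) {y : X} (hy : y ∈ closure (g '' T)) : ∃ τ ∈ T, g τ ⤳ y := by
  haveI : NoetherianSpace ↥T := (inferInstance : NoetherianSpace P).set T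
  have hsub : g '' T ⊆ ⋃ S ∈ irreducibleComponents ↥T, closure (g '' (Subtype.val '' S)) := by
    rintro _ ⟨z, hz, rfl⟩
    exact Set.mem_biUnion (irreducibleComponent_mem_irreducibleComponents (⟨z, hz⟩ : ↥T))
      (subset_closure ⟨z, ⟨⟨z, hz⟩, mem_irreducibleComponent, rfl⟩, rfl⟩)
  have hfin : (irreducibleComponents ↥T).Finite := NoetherianSpace.finite_irreducibleComponents
  obtain ⟨S, hS, hyS⟩ := Set.mem_iUnion₂.1
    (closure_minimal hsub (hfin.isClosed_biUnion fun S _ => isClosed_closure) hy)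
  have hirr : IsIrreducible (Subtype.val '' S) := hS.1.image _ continuous_subtype_val.continuousOn
  refine ⟨hirr.genericPoint, (closure_minimal (Subtype.coe_image_subset T S) hT)
    (hirr.genericPoint_closure_eq.le (subset_closure rfl)), specializes_iff_mem_closure.2 ?_⟩
  refine closure_minimal ?_ isClosed_closure hyS
  rintro _ ⟨x, hx, rfl⟩
  refine specializes_iff_mem_closure.1 (Specializes.map ?_ g.continuous)
  rw [specializes_iff_mem_closure, hirr.genericPoint_closure_eq]
  exact subset_closure hx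

variable {X S : Scheme.{u}} (q : S ⟶ Spec (CommRingCat.of k)) (f : X ⟶ S)
  [LocallyOfFiniteType q] [CompactSpace S] [LocallyOfFiniteType f] [IsSeparated f]

/-- The open complement of the diagonal. -/
def offDiag (f : X ⟶ S) [IsSeparated f] : (pullback f f).Opens :=
  ⟨(Set.range (pullback.diagonal f))ᶜ, (pullback.diagonal f).isClosedEmbedding.isClosed_range.isOpen_compl⟩

theorem setOf_eq (Y Z : Set X) :
    {p : ↥(pullback f f) | pullback.fst f f p ∈ Y ∧ pullback.snd f f p ∈ Z ∧ p ∉ Set.range (pullback.diagonal f)} =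
      (offDiag f : Set ↥(pullback f f)) ∩ (pullback.fst f f ⁻¹' Y ∩ pullback.snd f f ⁻¹' Z) := by
  ext p
  exact ⟨fun h => ⟨h.2.2, h.1, h.2.1⟩, fun h => ⟨h.2.1, h.2.2, h.1⟩⟩

include q in
theorem fst_ne_genericPoint (Y Z : Set X) (hYc : IsClosed Y) (hYi : IsIrreducible Y) (hZc : IsClosed Z)
    (hWI : topologicalKrullDim {p : ↥(pullback f f) | pullback.fst f f p ∈ Y ∧ pullback.snd f f p ∈ Z ∧
      p ∉ Set.range (pullback.diagonal f)} + topologicalKrullDim S ≤ topologicalKrullDim Y + topologicalKrullDim Z)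
    (hZS : topologicalKrullDim Z < topologicalKrullDim S) (p : ↥(pullback f f))
    (hpY : pullback.fst f f p ∈ Y) (hpZ : pullback.snd f f p ∈ Z) (hp : p ∉ Set.range (pullback.diagonal f)) :
    pullback.fst f f p ≠ hYi.genericPoint := by
  intro hpη
  rw [setOf_eq] at hWI
  have hmem : p ∈ (offDiag f : Set ↥(pullback f f)) ∩ (pullback.fst f f ⁻¹' Y ∩ pullback.snd f f ⁻¹' Z) :=
    ⟨hp, hpY, hpZ⟩
  have h1 := deg_le_dim (pullback.fst f f ≫ f ≫ q) (offDiag f)
    ((hYc.preimage (pullback.fst f f).continuous).inter (hZc.preimage (pullback.snd f f).continuous)) hmem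
  have h2 : deg (f ≫ q) hYi.genericPoint ≤ deg (pullback.fst f f ≫ f ≫ q) p := by
    rw [← hpη]
    exact deg_map_le (pullback.fst f f) (f ≫ q) rfl p
  have hYd : topologicalKrullDim Y = ((deg (f ≫ q) hYi.genericPoint : ℕ∞) : WithBot ℕ∞) := by
    rw [← topologicalKrullDim_closure_singleton (f ≫ q), hYi.genericPoint_closure_eq, hYc.closure_eq]
  haveI : Nonempty S := ⟨f hYi.genericPoint⟩
  obtain ⟨σ, -, -, hSd⟩ := exists_deg_eq_topologicalKrullDim (k := k) q
  rw [hYd, hSd] at hWI
  rw [hSd] at hZS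
  have h3 : ((deg (f ≫ q) hYi.genericPoint : ℕ∞) : WithBot ℕ∞) + ((deg q σ : ℕ∞) : WithBot ℕ∞) ≤
      ((deg (f ≫ q) hYi.genericPoint : ℕ∞) : WithBot ℕ∞) + topologicalKrullDim Z :=
    (add_le_add ((WithBot.coe_le_coe.2 (Nat.cast_le.2 h2)).trans h1) le_rfl).trans hWI
  have hZd : topologicalKrullDim Z = ⨆ z : Z, ((deg (f ≫ q) z.1 : ℕ∞) : WithBot ℕ∞) :=
    topologicalKrullDim_set_eq_iSup_deg (f ≫ q) hZc
  have hlt : ∀ z : Z, deg (f ≫ q) z.1 < deg q σ := fun z => by
    have := (le_iSup (fun z : Z => ((deg (f ≫ q) z.1 : ℕ∞) : WithBot ℕ∞)) z).trans_lt (hZd ▸ hZS)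
    exact_mod_cast this
  have hS0 : 0 < deg q σ := by
    have := hlt ⟨_, hpZ⟩
    omega
  have hZle : topologicalKrullDim Z ≤ (((deg q σ - 1 : ℕ) : ℕ∞) : WithBot ℕ∞) := by
    rw [hZd]
    exact iSup_le fun z => by exact_mod_cast Nat.le_sub_one_of_lt (hlt z)
  have h4 := h3.trans (add_le_add le_rfl hZle)
  have h5 : deg (f ≫ q) hYi.genericPoint + deg q σ ≤ deg (f ≫ q) hYi.genericPoint + (deg q σ - 1) := by
    exact_mod_cast h4
  omega

variable [CompactSpace X]

include q in
theorem isNoetherian_pullback : IsNoetherian (pullback f f) := by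
  haveI : IsLocallyNoetherian (pullback f f) :=
    LocallyOfFiniteType.isLocallyNoetherian (pullback.fst f f ≫ f ≫ q)
  haveI : IsLocallyNoetherian X := LocallyOfFiniteType.isLocallyNoetherian (f ≫ q)
  haveI : IsLocallyNoetherian S := LocallyOfFiniteType.isLocallyNoetherian q
  haveI : QuasiCompact f := inferInstance
  haveI : CompactSpace ↥(pullback f f) := QuasiCompact.compactSpace_of_compactSpace (pullback.fst f f)
  exact { }

include q in
theorem not_image_subset_closure (Y Z : Set X) (hYc : IsClosed Y) (hYi : IsIrreducible Y) (hZc : IsClosed Z)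
    (hWI : topologicalKrullDim {p : ↥(pullback f f) | pullback.fst f f p ∈ Y ∧ pullback.snd f f p ∈ Z ∧
      p ∉ Set.range (pullback.diagonal f)} + topologicalKrullDim S ≤ topologicalKrullDim Y + topologicalKrullDim Z)
    (hZS : topologicalKrullDim Z < topologicalKrullDim S) (hYZ : ¬ Y ⊆ Z) :
    ¬ (f '' Y ⊆ closure (f '' Y ∩ f '' Z)) := by
  intro hsub
  haveI := isNoetherian_pullback q f
  have hcl : closure ({hYi.genericPoint} : Set X) = Y := hYi.genericPoint_closure_eq.trans hYc.closure_eq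
  have hη : hYi.genericPoint ∈ Y := hcl.le (subset_closure rfl)
  have hT : IsClosed (pullback.fst f f ⁻¹' Y ∩ pullback.snd f f ⁻¹' Z) :=
    (hYc.preimage (pullback.fst f f).continuous).inter (hZc.preimage (pullback.snd f f).continuous)
  have hmem : f hYi.genericPoint ∈ closure ((pullback.fst f f ≫ f) '' (pullback.fst f f ⁻¹' Y ∩ pullback.snd f f ⁻¹' Z)) := by
    refine closure_mono ?_ (hsub ⟨_, hη, rfl⟩)
    rintro _ ⟨⟨y, hy, rfl⟩, ⟨z, hz, hzy⟩⟩
    obtain ⟨t, ht₁, ht₂⟩ := Scheme.Pullback.exists_preimage_pullback y z hzy.symm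
    exact ⟨t, ⟨show _ ∈ Y by rw [ht₁]; exact hy, show _ ∈ Z by rw [ht₂]; exact hz⟩,
      (Scheme.Hom.comp_apply _ _ t).trans (congrArg f ht₁)⟩
  obtain ⟨τ, ⟨hτY, hτZ⟩, hτ⟩ := exists_specializes_of_mem_closure_image _ hT hmem
  have heq : f hYi.genericPoint = f (pullback.fst f f τ) := by
    refine (((specializes_iff_mem_closure.2 (hcl.ge hτY)).map f.continuous).antisymm ?_).eq
    rw [← Scheme.Hom.comp_apply]
    exact hτ
  have heq' : f hYi.genericPoint = f (pullback.snd f f τ) := by
    rw [heq, ← Scheme.Hom.comp_apply, pullback.condition, Scheme.Hom.comp_apply]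
  obtain ⟨p, hp₁, hp₂⟩ := Scheme.Pullback.exists_preimage_pullback _ _ heq'
  refine fst_ne_genericPoint q f Y Z hYc hYi hZc hWI hZS p (by rw [hp₁]; exact hη) (by rw [hp₂]; exact hτZ) ?_ hp₁
  rintro ⟨x, rfl⟩
  rw [← Scheme.Hom.comp_apply, pullback.diagonal_fst] at hp₁
  rw [← Scheme.Hom.comp_apply, pullback.diagonal_snd] at hp₂
  exact hYZ fun y hy => hZc.closure_subset_iff.2 (Set.singleton_subset_iff.2 (show hYi.genericPoint ∈ Z from
    (hp₁.symm.trans hp₂) ▸ hτZ)) (hcl.ge hy)

/-- Two points with values in a field which agree modulo `S` and land on the diagonal are equal. -/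
theorem eq_of_range_subset_diagonal {K : Type u} [Field K] (g₁ g₂ : Spec (CommRingCat.of K) ⟶ X)
    (h : g₁ ≫ f = g₂ ≫ f)
    (hmem : pullback.lift g₁ g₂ h (IsLocalRing.closedPoint K) ∈ Set.range (pullback.diagonal f)) : g₁ = g₂ := by
  generalize hl : pullback.lift g₁ g₂ h = l at hmem
  suffices l ≫ pullback.fst f f = l ≫ pullback.snd f f by
    subst hl
    rwa [pullback.lift_fst, pullback.lift_snd] at this
  have hl' : l = Spec.map ((pullback f f).SpecToEquivOfField K l).2 ≫
      (pullback f f).fromSpecResidueField ((pullback f f).SpecToEquivOfField K l).1 :=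
    (((pullback f f).SpecToEquivOfField K).symm_apply_apply l).symm
  obtain ⟨x, hx⟩ := hmem
  have hx' : pullback.diagonal f x = ((pullback f f).SpecToEquivOfField K l).1 := hx
  rw [hl']
  simp only [Category.assoc]
  congr 1
  rw [← hx']
  haveI : IsIso ((pullback.diagonal f).residueFieldMap x) := by
    rw [ConcreteCategory.isIso_iff_bijective]
    exact RadPtLib.bijective_residueFieldMap _ _
  rw [← cancel_epi (Spec.map ((pullback.diagonal f).residueFieldMap x))]
  simp only [Scheme.Hom.SpecMap_residueFieldMap_fromSpecResidueField_assoc, pullback.diagonal_fst,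
    pullback.diagonal_snd]

include q in
theorem generically_radicial (Y : Set X) (hYc : IsClosed Y) (hYi : IsIrreducible Y)
    (hWI : topologicalKrullDim {p : ↥(pullback f f) | pullback.fst f f p ∈ Y ∧ pullback.snd f f p ∈ Y ∧
      p ∉ Set.range (pullback.diagonal f)} + topologicalKrullDim S ≤ topologicalKrullDim Y + topologicalKrullDim Y)
    (hYS : topologicalKrullDim Y < topologicalKrullDim S) :
    ∃ V : Set X, IsOpen V ∧ (V ∩ Y).Nonempty ∧ Set.InjOn f (V ∩ Y) ∧
      ∀ x ∈ V ∩ Y, (f.residueFieldMap x).hom.IsPurelyInseparable := by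
  haveI := isNoetherian_pullback q f
  haveI : IsNoetherian (offDiag f : Scheme.{u}) := by
    haveI : IsLocallyNoetherian (offDiag f : Scheme.{u}) := isLocallyNoetherian_of_isOpenImmersion (offDiag f).ι
    haveI : CompactSpace (offDiag f : Scheme.{u}) :=
      isCompact_iff_compactSpace.mp (NoetherianSpace.isCompact (offDiag f : Set ↥(pullback f f)))
    exact { }
  let g := (offDiag f).ι ≫ pullback.fst f f
  let T : Set (offDiag f : Scheme.{u}) := (offDiag f).ι ⁻¹' (pullback.fst f f ⁻¹' Y ∩ pullback.snd f f ⁻¹' Y)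
  have hT : IsClosed T :=
    ((hYc.preimage (pullback.fst f f).continuous).inter (hYc.preimage (pullback.snd f f).continuous)).preimage
      (offDiag f).ι.continuous
  have hcl : closure ({hYi.genericPoint} : Set X) = Y := hYi.genericPoint_closure_eq.trans hYc.closure_eq
  have hη : hYi.genericPoint ∈ Y := hcl.le (subset_closure rfl)
  let V : Set X := (closure (g '' T))ᶜ
  have hηV : hYi.genericPoint ∈ V := fun hmem => by
    obtain ⟨τ, ⟨hτY, hτY'⟩, hτ⟩ := exists_specializes_of_mem_closure_image g hT hmem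
    refine fst_ne_genericPoint q f Y Y hYc hYi hYc hWI hYS _ hτY hτY' τ.2 ?_
    exact (hτ.antisymm (specializes_iff_mem_closure.2 (hcl.ge hτY))).eq
  have hgood : ∀ p : ↥(pullback f f), pullback.fst f f p ∈ V ∩ Y → pullback.snd f f p ∈ Y →
      p ∈ Set.range (pullback.diagonal f) := fun p hp hp' => by
    by_contra hnd
    exact hp.1 (subset_closure ⟨⟨p, hnd⟩, ⟨hp.2, hp'⟩, rfl⟩)
  refine ⟨V, isClosed_closure.isOpen_compl, ⟨_, hηV, hη⟩, ?_, ?_⟩
  · intro x hx y hy hxy
    obtain ⟨t, ht₁, ht₂⟩ := Scheme.Pullback.exists_preimage_pullback x y hxy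
    obtain ⟨w, rfl⟩ := hgood t (by rw [ht₁]; exact hx) (by rw [ht₂]; exact hy.2)
    rw [← Scheme.Hom.comp_apply, pullback.diagonal_fst] at ht₁
    rw [← Scheme.Hom.comp_apply, pullback.diagonal_snd] at ht₂
    exact ht₁.symm.trans ht₂
  · intro x hx
    let I := Scheme.IdealSheafData.vanishingIdeal (⟨Y, hYc⟩ : Closeds X)
    have hrange : Set.range I.subschemeι = Y :=
      I.range_subschemeι.trans (Scheme.IdealSheafData.coe_support_vanishingIdeal ..)
    let V' : I.subscheme.Opens := ⟨I.subschemeι ⁻¹' V, isClosed_closure.isOpen_compl.preimage I.subschemeι.continuous⟩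
    let h := V'.ι ≫ I.subschemeι
    have hh : ∀ v, h v ∈ V ∩ Y := fun v => ⟨v.2, hrange.le ⟨_, rfl⟩⟩
    obtain ⟨w, hw⟩ := hrange.ge hx.2
    let v : (V' : Scheme.{u}) := ⟨w, show I.subschemeι w ∈ V by rw [hw]; exact hx.1⟩
    have hv : h v = x := hw
    have key : ∀ (K : Type u) [Field K], Function.Injective (fun g : Spec (.of K) ⟶ V' ↦ g ≫ h ≫ f) := by
      intro K _ g₁ g₂ hg
      apply (cancel_mono h).1
      refine eq_of_range_subset_diagonal f _ _ (by simpa using hg) (hgood _ ?_ ?_)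
      · rw [← Scheme.Hom.comp_apply, pullback.lift_fst, Scheme.Hom.comp_apply]
        exact hh _
      · rw [← Scheme.Hom.comp_apply, pullback.lift_snd, Scheme.Hom.comp_apply]
        exact (hh _).2
    have htfae : (∀ (K : Type u) [Field K], Function.Injective (fun g : Spec (.of K) ⟶ V' ↦ g ≫ h ≫ f)) →
        Function.Injective (h ≫ f) ∧ ∀ x, ((h ≫ f).residueFieldMap x).hom.IsPurelyInseparable :=
      ((tfae_universallyInjective (h ≫ f)).out 1 2).1
    have hpi := (htfae key).2 v
    rw [Scheme.residueFieldMap_comp] at hpi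
    have hpi' := (RadPtLib.isPurelyInseparable_comp_iff_left (f.residueFieldMap (h v)).hom (h.residueFieldMap v).hom
      (RadPtLib.bijective_residueFieldMap _ _)).1 hpi
    exact hv ▸ hpi'

end Groth.Agent.CharCycLib
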